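import Mathlib.Algebra.Homology.DerivedCategory.Fractions
import Mathlib.Algebra.Homology.DerivedCategory.TStructure
import Mathlib.Logic.Denumerable
import Mathlib.Order.Interval.Finset.Basic
import Mathlib.Data.Int.Interval
import Mathlib.Data.Countable.Basic

/-!
The bounded derived category of a countable abelian category is countable.
-/

set_option autoImplicit false
set_option linter.style.haveILetI false
set_option backward.isDefEq.respectTransparency false
set_option backward.isDefEq.respectTransparency.types false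

universe w v u

open CategoryTheory Limits

namespace Groth.Agent.DbCount

variable {A : Type u} [Category.{v} A] [Abelian A]

/-- A numerical code for a complex supported in `[a, b]`: objects from the list and all differentials. -/
abbrev Code (e : ℕ → A) (a b : ℤ) : Type v :=
  Σ n : ↥(Finset.Icc a b) → ℕ, ∀ i j : ↥(Finset.Icc a b), (e (n i) ⟶ e (n j))

lemma countable_code (hhom : ∀ X Y : A, Countable (X ⟶ Y)) (e : ℕ → A) (a b : ℤ) : Countable (Code e a b) := by
  haveI : ∀ X Y : A, Countable (X ⟶ Y) := hhom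
  infer_instance

/-- `K` has code `c`. -/
def Rep {e : ℕ → A} {a b : ℤ} (c : Code e a b) (K : CochainComplex A ℤ) : Prop :=
  K.IsStrictlyGE a ∧ K.IsStrictlyLE b ∧ ∃ φ : ∀ i : ↥(Finset.Icc a b), K.X i.1 ≅ e (c.1 i),
    ∀ i j, (φ i).hom ≫ c.2 i j = K.d i.1 j.1 ≫ (φ j).hom

lemma exists_rep {e : ℕ → A} (he : ∀ X : A, ∃ n : ℕ, Nonempty (X ≅ e n)) (a b : ℤ) (K : CochainComplex A ℤ)
    [h1 : K.IsStrictlyGE a] [h2 : K.IsStrictlyLE b] : ∃ c : Code e a b, Rep c K := by
  choose n hn using fun i : ↥(Finset.Icc a b) => he (K.X i.1)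
  exact ⟨⟨n, fun i j => (hn i).some.inv ≫ K.d i.1 j.1 ≫ (hn j).some.hom⟩, h1, h2, fun i => (hn i).some,
    fun i j => by rw [Iso.hom_inv_id_assoc]⟩

lemma isZero_outside {a b : ℤ} (K : CochainComplex A ℤ) [K.IsStrictlyGE a] [K.IsStrictlyLE b] {i : ℤ}
    (hi : i ∉ Finset.Icc a b) : IsZero (K.X i) := by
  rw [Finset.mem_Icc, not_and_or, not_le, not_le] at hi
  exact hi.elim (fun h => K.isZero_of_isStrictlyGE a i h) (fun h => K.isZero_of_isStrictlyLE b i h)

lemma iso_of_rep {e : ℕ → A} {a b : ℤ} {c : Code e a b} {K K' : CochainComplex A ℤ} (h : Rep c K)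
    (h' : Rep c K') : Nonempty (K ≅ K') := by
  obtain ⟨g1, g2, φ, hφ⟩ := h
  obtain ⟨g1', g2', φ', hφ'⟩ := h'
  refine ⟨HomologicalComplex.Hom.isoOfComponents (fun i => if hi : i ∈ Finset.Icc a b then φ ⟨i, hi⟩ ≪≫ (φ' ⟨i, hi⟩).symm
    else (isZero_outside K hi).iso (isZero_outside K' hi)) fun i j _ => ?_⟩
  by_cases hi : i ∈ Finset.Icc a b
  · by_cases hj : j ∈ Finset.Icc a b
    · rw [dif_pos hi, dif_pos hj, Iso.trans_hom, Iso.trans_hom, Iso.symm_hom, Iso.symm_hom]
      have h1 := hφ ⟨i, hi⟩ ⟨j, hj⟩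
      have h2 := hφ' ⟨i, hi⟩ ⟨j, hj⟩
      rw [Category.assoc, ← Category.assoc (K.d i j), ← h1, Category.assoc]
      congr 1
      rw [Iso.inv_comp_eq, ← Category.assoc, Iso.eq_comp_inv]
      exact h2.symm
    · exact (isZero_outside K' hj).eq_of_tgt _ _
  · exact (isZero_outside K hi).eq_of_src _ _

lemma countable_hom (hhom : ∀ X Y : A, Countable (X ⟶ Y)) {a b : ℤ} (K L : CochainComplex A ℤ)
    [K.IsStrictlyGE a] [K.IsStrictlyLE b] : Countable (K ⟶ L) := by
  haveI : ∀ X Y : A, Countable (X ⟶ Y) := hhom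
  refine Function.Injective.countable (f := fun (g : K ⟶ L) (i : ↥(Finset.Icc a b)) => g.f i.1) fun g g' h => ?_
  refine HomologicalComplex.hom_ext _ _ fun i => ?_
  by_cases hi : i ∈ Finset.Icc a b
  · exact congrFun h ⟨i, hi⟩
  · exact (isZero_outside K hi).eq_of_src _ _

variable [HasDerivedCategory.{w} A]

lemma countable_hom_Q (hhom : ∀ X Y : A, Countable (X ⟶ Y)) {e : ℕ → A}
    (he : ∀ X : A, ∃ n : ℕ, Nonempty (X ≅ e n)) (a b : ℤ) (K L : CochainComplex A ℤ) [K.IsStrictlyGE a]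
    [K.IsStrictlyLE b] [L.IsStrictlyGE a] :
    Countable (DerivedCategory.Q.obj K ⟶ DerivedCategory.Q.obj L) := by
  classical
  let I := {c : Code e a b // ∃ R, Rep c R}
  haveI := countable_code hhom e a b
  let R : I → CochainComplex A ℤ := fun c => c.2.choose
  haveI : ∀ c : I, (R c).IsStrictlyGE a := fun c => c.2.choose_spec.1
  haveI : ∀ c : I, (R c).IsStrictlyLE b := fun c => c.2.choose_spec.2.1
  haveI : ∀ c : I, Countable (R c ⟶ K) := fun c => countable_hom hhom (a := a) (b := b) _ _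
  haveI : ∀ c : I, Countable (R c ⟶ L) := fun c => countable_hom hhom (a := a) (b := b) _ _
  let J := Σ c : I, {s : R c ⟶ K // IsIso (DerivedCategory.Q.map s)} × (R c ⟶ L)
  let F : J → (DerivedCategory.Q.obj K ⟶ DerivedCategory.Q.obj L) := fun t =>
    haveI := t.2.1.2
    inv (DerivedCategory.Q.map t.2.1.1) ≫ DerivedCategory.Q.map t.2.2
  refine Function.Surjective.countable (f := F) fun f => ?_
  obtain ⟨X', h1, h2, s, hs, g, rfl⟩ := DerivedCategory.right_fac_of_isStrictlyLE_of_isStrictlyGE a b f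
  obtain ⟨c, hc⟩ := exists_rep he a b X'
  let cI : I := ⟨c, X', hc⟩
  obtain ⟨ι⟩ := iso_of_rep (cI.2.choose_spec) hc
  haveI : IsIso (DerivedCategory.Q.map (ι.hom ≫ s)) := by rw [Functor.map_comp]; infer_instance
  refine ⟨⟨cI, ⟨ι.hom ≫ s, this⟩, ι.hom ≫ g⟩, ?_⟩
  show inv (DerivedCategory.Q.map (ι.hom ≫ s)) ≫ DerivedCategory.Q.map (ι.hom ≫ g) = _
  simp only [Functor.map_comp, IsIso.inv_comp, Category.assoc, IsIso.inv_hom_id_assoc]

lemma exists_strict (X : DerivedCategory.Bounded A) :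
    ∃ (a b : ℤ) (K : CochainComplex A ℤ) (_ : K.IsStrictlyGE a) (_ : K.IsStrictlyLE b),
      Nonempty (X.obj ≅ DerivedCategory.Q.obj K) := by
  obtain ⟨⟨a, ha⟩, ⟨b, hb⟩⟩ := X.property
  haveI : X.obj.IsGE a := ha
  haveI : X.obj.IsLE b := hb
  obtain ⟨K, h1, h2, e⟩ := DerivedCategory.exists_iso_Q_obj_of_isGE_of_isLE X.obj a b
  exact ⟨a, b, K, h1, h2, e⟩

theorem countable_bounded (hhom : ∀ X Y : A, Countable (X ⟶ Y))
    (hiso : ∃ e : ℕ → A, ∀ X : A, ∃ n : ℕ, Nonempty (X ≅ e n)) :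
    (∀ K L : DerivedCategory.Bounded A, Countable (K ⟶ L)) ∧
      ∃ e : ℕ → DerivedCategory.Bounded A, ∀ K : DerivedCategory.Bounded A, ∃ n : ℕ, Nonempty (K ≅ e n) := by
  classical
  obtain ⟨e, he⟩ := hiso
  constructor
  · intro X Y
    obtain ⟨a, b, K, h1, h2, ⟨eX⟩⟩ := exists_strict X
    obtain ⟨a', b', L, h3, h4, ⟨eY⟩⟩ := exists_strict Y
    haveI := K.isStrictlyGE_of_ge (min a a') a (min_le_left _ _)
    haveI := L.isStrictlyGE_of_ge (min a a') a' (min_le_right _ _)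
    haveI := countable_hom_Q hhom he (min a a') b K L
    exact Function.Injective.countable (f := fun g : X ⟶ Y => eX.inv ≫ g.hom ≫ eY.hom) fun g g' h =>
      ObjectProperty.hom_ext _ (by simpa using h)
  · haveI : ∀ a b : ℤ, Countable (Code e a b) := countable_code hhom e
    let I := Σ ab : ℤ × ℤ, {c : Code e ab.1 ab.2 // ∃ R, Rep c R}
    let R : I → CochainComplex A ℤ := fun t => t.2.2.choose
    haveI : ∀ t : I, (R t).IsStrictlyGE t.1.1 := fun t => t.2.2.choose_spec.1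
    haveI : ∀ t : I, (R t).IsStrictlyLE t.1.2 := fun t => t.2.2.choose_spec.2.1
    let B : I → DerivedCategory.Bounded A := fun t => ⟨DerivedCategory.Q.obj (R t),
      ⟨⟨t.1.1, (inferInstance : (DerivedCategory.Q.obj (R t)).IsGE t.1.1)⟩,
        ⟨t.1.2, (inferInstance : (DerivedCategory.Q.obj (R t)).IsLE t.1.2)⟩⟩⟩
    have key : ∀ X : DerivedCategory.Bounded A, ∃ t : I, Nonempty (X ≅ B t) := by
      intro X
      obtain ⟨a, b, K, h1, h2, ⟨eX⟩⟩ := exists_strict X
      obtain ⟨c, hc⟩ := exists_rep he a b K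
      let t : I := ⟨(a, b), c, K, hc⟩
      obtain ⟨ι⟩ := iso_of_rep hc t.2.2.choose_spec
      exact ⟨t, ⟨ObjectProperty.isoMk _ (eX ≪≫ DerivedCategory.Q.mapIso ι)⟩⟩
    haveI : Nonempty I := by
      let Z : DerivedCategory.Bounded A := ⟨(DerivedCategory.singleFunctor A 0).obj (e 0),
        ⟨⟨0, (inferInstance : ((DerivedCategory.singleFunctor A 0).obj (e 0)).IsGE 0)⟩,
          ⟨0, (inferInstance : ((DerivedCategory.singleFunctor A 0).obj (e 0)).IsLE 0)⟩⟩⟩
      exact ⟨(key Z).choose⟩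
    obtain ⟨f, hf⟩ := exists_surjective_nat I
    refine ⟨B ∘ f, fun X => ?_⟩
    obtain ⟨t, ht⟩ := key X
    obtain ⟨n, rfl⟩ := hf t
    exact ⟨n, ht⟩

end Groth.Agent.DbCount
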